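/- Moore's theorem: the underlying simplicial set of a simplicial group is a Kan complex. -/
import Mathlib.AlgebraicTopology.SimplicialSet.KanComplex
import Mathlib.AlgebraicTopology.SimplicialObject.Basic
import Mathlib.Algebra.Category.Grp.Basic

set_option autoImplicit false

open CategoryTheory Simplicial Opposite SSet

universe u

namespace Groth.Agent.SimpGrp.Kan

variable (X : SimplicialObject GrpCat.{u})

abbrev G (n : ℕ) : Type u := ↥(X.obj (op ⦋n⦌))

abbrev d {n : ℕ} (i : Fin (n + 2)) : G X (n + 1) →* G X n :=
  (X.δ i).hom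

abbrev s {n : ℕ} (i : Fin (n + 1)) : G X n →* G X (n + 1) :=
  (X.σ i).hom

lemma d_s_castSucc {n : ℕ} (i : Fin (n + 1)) (x : G X n) : d X i.castSucc (s X i x) = x :=
  ConcreteCategory.congr_hom (SimplicialObject.δ_comp_σ_self X (i := i)) x

lemma d_s_succ {n : ℕ} (i : Fin (n + 1)) (x : G X n) : d X i.succ (s X i x) = x :=
  ConcreteCategory.congr_hom (SimplicialObject.δ_comp_σ_succ X (i := i)) x

lemma d_s_of_le {n : ℕ} {i : Fin (n + 2)} {j : Fin (n + 1)} (H : i ≤ j.castSucc) (x : G X (n + 1)) :
    d X i.castSucc (s X j.succ x) = s X j (d X i x) :=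
  ConcreteCategory.congr_hom (SimplicialObject.δ_comp_σ_of_le X H) x

lemma d_s_of_gt {n : ℕ} {i : Fin (n + 2)} {j : Fin (n + 1)} (H : j.castSucc < i) (x : G X (n + 1)) :
    d X i.succ (s X j.castSucc x) = s X j (d X i x) :=
  ConcreteCategory.congr_hom (SimplicialObject.δ_comp_σ_of_gt X H) x

lemma d_d {n : ℕ} {i j : Fin (n + 2)} (H : i ≤ j) (x : G X (n + 2)) :
    d X i (d X j.succ x) = d X j (d X i.castSucc x) :=
  ConcreteCategory.congr_hom (SimplicialObject.δ_comp_δ X H) x

theorem fill {n : ℕ} (i : Fin (n + 2)) (x : Fin (n + 2) → G X n)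
    (hx : ∀ m, ∀ (h : n = m + 1) (a b : Fin (m + 2)), a ≤ b →
      ((Fin.cast (by omega) a.castSucc : Fin (n + 2)) ≠ i) →
      ((Fin.cast (by omega) b.succ : Fin (n + 2)) ≠ i) →
      d X b (h ▸ x (Fin.cast (by omega) a.castSucc)) =
        d X a (h ▸ x (Fin.cast (by omega) b.succ))) :
    ∃ w : G X (n + 1), ∀ j, j ≠ i → d X j w = x j := by
  have phase1 : ∀ k : ℕ, k ≤ i.val → ∃ w : G X (n + 1), ∀ j, j.val < k → d X j w = x j := by
    intro k
    induction k with
    | zero => exact fun _ => ⟨1, fun j hj => absurd hj (Nat.not_lt_zero _)⟩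
    | succ k ih =>
      intro hk
      obtain ⟨w, hw⟩ := ih (Nat.le_of_succ_le hk)
      have hkn : k < n + 1 := by have := i.isLt; omega
      let k' : Fin (n + 1) := ⟨k, hkn⟩
      let y := (d X k'.castSucc w)⁻¹ * x k'.castSucc
      refine ⟨w * s X k' y, fun j hj => ?_⟩
      rw [map_mul]
      by_cases hjk : j.val = k
      · obtain rfl : j = k'.castSucc := Fin.ext hjk
        rw [d_s_castSucc]; simp [y]
      · have hjk' : j.val < k := by omega
        obtain ⟨m, rfl⟩ : ∃ m, n = m + 1 := ⟨n - 1, by omega⟩
        let p : Fin (m + 1) := ⟨k - 1, by omega⟩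
        let l : Fin (m + 2) := ⟨j.val, by omega⟩
        have hl : l ≤ p.castSucc := by simp [p, l, Fin.le_def]; omega
        have e1 : k' = p.succ := Fin.ext (by simp [k', p]; omega)
        have e2 : j = l.castSucc := rfl
        suffices d X l y = 1 by
          rw [e2, e1, d_s_of_le X hl, this, map_one, mul_one]
          exact hw j hjk'
        have e3 : k'.castSucc = p.castSucc.succ := Fin.ext (by simp [k', p]; omega)
        simp only [y, map_mul, map_inv, e3]
        rw [d_d X hl, hw l.castSucc hjk', inv_mul_eq_one]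
        exact hx m rfl l p.castSucc hl
          (fun h => by have := congrArg Fin.val h; simp [l] at this; omega)
          (fun h => by have := congrArg Fin.val h; simp [p] at this; omega)
  have phase2 : ∀ t : ℕ, t ≤ n + 1 - i.val → ∃ w : G X (n + 1),
      ∀ j, j ≠ i → (j.val < i.val ∨ n + 1 - t < j.val) → d X j w = x j := by
    intro t
    induction t with
    | zero =>
      intro _
      obtain ⟨w, hw⟩ := phase1 i.val le_rfl
      exact ⟨w, fun j _ hj => hw j (hj.resolve_right (by have := j.isLt; omega))⟩
    | succ t ih =>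
      intro ht
      obtain ⟨w, hw⟩ := ih (Nat.le_of_succ_le ht)
      let k' : Fin (n + 1) := ⟨n - t, by omega⟩
      let y := (d X k'.succ w)⁻¹ * x k'.succ
      refine ⟨w * s X k' y, fun j hji hj => ?_⟩
      rw [map_mul]
      by_cases hjk : j.val = n - t + 1
      · obtain rfl : j = k'.succ := Fin.ext hjk
        rw [d_s_succ]; simp [y]
      · have hold : j.val < i.val ∨ n + 1 - t < j.val := by
          rcases hj with hj | hj
          · exact Or.inl hj
          · exact Or.inr (by omega)
        obtain ⟨m, rfl⟩ : ∃ m, n = m + 1 :=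
          ⟨n - 1, by have := i.isLt; have := j.isLt; omega⟩
        rcases hold with hlt | hgt
        · let p : Fin (m + 1) := ⟨m - t, by omega⟩
          let l : Fin (m + 2) := ⟨j.val, by have := i.isLt; omega⟩
          have hl : l ≤ p.castSucc := by simp [p, l, Fin.le_def]; omega
          have e1 : k' = p.succ := Fin.ext (by simp [k', p]; omega)
          have e2 : j = l.castSucc := rfl
          suffices d X l y = 1 by
            rw [e2, e1, d_s_of_le X hl, this, map_one, mul_one]
            exact hw j hji (Or.inl hlt)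
          have hl' : l ≤ p.succ := hl.trans (Fin.castSucc_le_succ p)
          simp only [y, map_mul, map_inv, e1]
          rw [d_d X hl', hw l.castSucc hji (Or.inl hlt), inv_mul_eq_one]
          exact hx m rfl l p.succ hl' hji
            (fun h => by have := congrArg Fin.val h; simp [p] at this; omega)
        · have hjlt := j.isLt
          let p : Fin (m + 1) := ⟨m + 1 - t, by omega⟩
          let l : Fin (m + 2) := ⟨j.val - 1, by omega⟩
          have hl : p.castSucc < l := by simp [p, l, Fin.lt_def]; omega
          have e1 : k' = p.castSucc := rfl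
          have e2 : j = l.succ := Fin.ext (by simp [l]; omega)
          suffices d X l y = 1 by
            rw [e2, e1, d_s_of_gt X hl, this, map_one, mul_one, ← e2]
            exact hw j hji (Or.inr hgt)
          have hl' : p.succ ≤ l := Fin.castSucc_lt_iff_succ_le.mp hl
          have e3 : k'.succ = p.succ.castSucc := Fin.ext (by simp [k', p])
          simp only [y, map_mul, map_inv, e3]
          have hwj : d X l.succ w = x l.succ := by rw [← e2]; exact hw j hji (Or.inr hgt)
          rw [← d_d X hl', hwj, inv_mul_eq_one]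
          exact (hx m rfl p.succ l hl'
            (fun h => by have := congrArg Fin.val h; simp [p] at this; omega)
            (fun h => hji (e2.trans h))).symm
  obtain ⟨w, hw⟩ := phase2 (n + 1 - i.val) le_rfl
  refine ⟨w, fun j hj => hw j hj ?_⟩
  rcases lt_or_gt_of_ne (fun h => hj (Fin.ext h) : j.val ≠ i.val) with h | h
  · exact Or.inl h
  · exact Or.inr (by have := i.isLt; omega)

lemma yonedaEquiv_map_comp {Y : SSet.{u}} {m n : SimplexCategory} (g : m ⟶ n)
    (f : stdSimplex.obj n ⟶ Y) :
    yonedaEquiv (stdSimplex.map g ≫ f) = Y.map g.op (yonedaEquiv f) := by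
  exact (uliftYonedaEquiv_naturality f g.op).symm

theorem kanComplex : SSet.KanComplex (X ⋙ forget GrpCat.{u}) := by
  rw [SSet.KanComplex.iff]
  intro n i f hf
  classical
  let x : Fin (n + 2) → G X n := fun j => if h : j = i then 1 else yonedaEquiv (f j h)
  obtain ⟨w, hw⟩ := fill X i x (by
    rintro m rfl a b hab ha hb
    have hlt : a.castSucc < b.succ := Fin.castSucc_lt_succ_iff.2 hab
    have h := congrArg yonedaEquiv ((horn.isCompatible_iff f).1 hf a.castSucc b.succ ha hb hlt)
    simp only [Fin.pred_succ, Fin.castPred_castSucc] at h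
    simp only [Fin.cast_eq_self] at ha hb ⊢
    simp only [x, dif_neg ha, dif_neg hb]
    exact ((yonedaEquiv_map_comp _ _).symm.trans h).trans (yonedaEquiv_map_comp _ _))
  refine ⟨yonedaEquiv.symm w, fun j hj => yonedaEquiv.injective ?_⟩
  refine (yonedaEquiv_map_comp _ _).trans ?_
  rw [Equiv.apply_symm_apply]
  refine (hw j hj).trans ?_
  simp only [x, dif_neg hj]

end Groth.Agent.SimpGrp.Kan
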